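import Cfsg.Agent.Lib.PGroup.SectFourWreath.Model
import Cfsg.Agent.Lib.PGroup.SelfCentEight.Setting
import Cfsg.Prelude.Def_CaseTheorems

/-!
# Groups of sectional rank four containing the model

Centralisers and normalisers of the model and of its two normal elementary subgroups of order
sixteen.
-/

set_option autoImplicit false
set_option linter.unusedSectionVars false
set_option linter.style.haveILetI false

open Subgroup DihedralGroup
open CfsgLib.PGroup.SelfCentEight (cm)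

namespace CfsgLib.PGroup.SectFourWreath

variable {S : Type*} [Group S]

/-- No section of order at least thirty-two and exponent two. -/
theorem no_five [Finite S] (hr : Cfsg.SectionalPRankLE 2 4 S) {U Z : Subgroup S} (hZU : Z ≤ U)
    (h16 : 16 ≤ Z.relIndex U) (hUsq : ∀ u ∈ U, u * u ∈ Z) {x : S} (hx : x ∉ U)
    (hc : ∀ u ∈ U, x * u * x⁻¹ * u⁻¹ ∈ Z) (hx2 : x * x ∈ Z) : False := by
  have hxU : ∀ u ∈ U, x * u * x⁻¹ ∈ U := fun u hu => by
    have h := mul_mem (hZU (hc u hu)) hu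
    rwa [inv_mul_cancel_right] at h
  have hxU' : ∀ u ∈ U, x⁻¹ * u * x ∈ U := fun u hu => by
    have h := mul_mem (mul_mem (inv_mem (hZU hx2)) (hxU u hu)) (hZU hx2)
    rwa [show (x * x)⁻¹ * (x * u * x⁻¹) * (x * x) = x⁻¹ * u * x by group] at h
  let K : Subgroup S :=
    { carrier := {k | k ∈ U ∨ x⁻¹ * k ∈ U}
      one_mem' := Or.inl (one_mem U)
      mul_mem' := by
        rintro a b (ha | ha) (hb | hb)
        · exact Or.inl (mul_mem ha hb)
        · refine Or.inr ?_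
          have h := mul_mem (hxU' a ha) hb
          rwa [show x⁻¹ * a * x * (x⁻¹ * b) = x⁻¹ * (a * b) by group] at h
        · refine Or.inr ?_
          rw [← mul_assoc]; exact mul_mem ha hb
        · refine Or.inl ?_
          have h := mul_mem (mul_mem (hxU _ ha) (hZU hx2)) hb
          rwa [show x * (x⁻¹ * a) * x⁻¹ * (x * x) * (x⁻¹ * b) = a * b by group] at h
      inv_mem' := by
        rintro a (ha | ha)
        · exact Or.inl (inv_mem ha)
        · refine Or.inr ?_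
          have h := mul_mem (inv_mem (hZU hx2)) (hxU _ (inv_mem ha))
          rwa [show (x * x)⁻¹ * (x * (x⁻¹ * a)⁻¹ * x⁻¹) = x⁻¹ * a⁻¹ by group] at h }
  have hUK : U ≤ K := fun u hu => Or.inl hu
  have hconjU : ∀ z ∈ Z, ∀ u ∈ U, u * z * u⁻¹ ∈ Z := fun z hz u hu => by
    have h := mul_mem (mul_mem (hUsq _ (mul_mem hu (hZU hz))) (inv_mem hz)) (inv_mem (hUsq u hu))
    rwa [show u * z * (u * z) * z⁻¹ * (u * u)⁻¹ = u * z * u⁻¹ by group] at h
  have hsq : ∀ k ∈ K, k * k ∈ Z := by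
    rintro k (hk | hk)
    · exact hUsq k hk
    · set v := x⁻¹ * k with hv
      have h := mul_mem (hc v hk)
        (mul_mem (hconjU _ hx2 v hk) (hUsq v hk))
      rwa [show x * v * x⁻¹ * v⁻¹ * (v * (x * x) * v⁻¹ * (v * v)) = k * k by rw [hv]; group] at h
  haveI hnorm : (Z.subgroupOf K).Normal := ⟨fun z hz k => by
    have h1 := hsq _ (mul_mem k.2 z.2)
    have hz' : (z : S) ∈ Z := hz
    have h := mul_mem (mul_mem h1 (inv_mem hz')) (inv_mem (hsq _ k.2))
    show (k : S) * z * (k : S)⁻¹ ∈ Z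
    rwa [show (k : S) * z * (k * z) * (z : S)⁻¹ * ((k : S) * k)⁻¹ = k * z * (k : S)⁻¹ by group] at h⟩
  have hexp : ∀ a : K ⧸ Z.subgroupOf K, a * a = 1 := fun a => by
    obtain ⟨b, rfl⟩ := QuotientGroup.mk_surjective a
    exact (QuotientGroup.eq_one_iff _).2 (hsq _ b.2)
  have h := hr K (Z.subgroupOf K) ⊤ (isMulCommutative_iff.2 fun a b => Subtype.ext (by
      have hi : ∀ c : K ⧸ Z.subgroupOf K, c⁻¹ = c := fun c => inv_eq_of_mul_eq_one_right (hexp c)
      show (a : K ⧸ Z.subgroupOf K) * b = b * a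
      rw [← hi ((a : K ⧸ Z.subgroupOf K) * b), mul_inv_rev, hi, hi]))
    (fun a _ => by rw [pow_two]; exact hexp a)
  rw [card_top, ← index_eq_card, show (Z.subgroupOf K).index = Z.relIndex K from rfl,
    ← relIndex_mul_relIndex Z U K hZU hUK] at h
  have h2 : 2 ≤ U.relIndex K := by
    have h0 : U.relIndex K ≠ 0 := index_ne_zero_of_finite
    have h1 : U.relIndex K ≠ 1 := fun e => hx (relIndex_eq_one.1 e
      (Or.inr (show x⁻¹ * x ∈ U by rw [inv_mul_cancel]; exact one_mem U) : x ∈ K))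
    omega
  have := Nat.mul_le_mul h16 h2
  omega

theorem exists_power_outside {P : Subgroup S} :
    ∀ (n : ℕ) (x : S), x ^ 2 ^ n = 1 → x ∉ P → ∃ m : ℕ, x ^ m ∉ P ∧ x ^ m * x ^ m ∈ P
  | 0, x, h, hx => absurd (by rw [pow_zero, pow_one] at h; rw [h]; exact one_mem P) hx
  | n + 1, x, h, hx => by
    by_cases h2 : x * x ∈ P
    · exact ⟨1, by rwa [pow_one], by rwa [pow_one]⟩
    · obtain ⟨m, hm1, hm2⟩ := exists_power_outside n (x * x)
        (by rwa [← pow_two, ← pow_mul, ← pow_succ']) h2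
      refine ⟨2 * m, ?_, ?_⟩ <;> rw [pow_mul, pow_two] <;> assumption

/-- A copy of the model in `S`. -/
structure Frame (P : Subgroup S) (ψ : W →* S) : Prop where
  inj : Function.Injective ψ
  range : ψ.range = P
  two : IsPGroup 2 S
  rank : Cfsg.SectionalPRankLE 2 4 S

/-- The automorphism exchanging the two four-groups. -/
def dShift : DEight →* DEight :=
  MonoidHom.mk' (fun d => match d with | r i => r i | sr i => sr (i + 1)) (by decide)

/-- Its extension to the model. -/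
def wShift : W →* W :=
  SemidirectProduct.map (dShift.prodMap dShift) (MonoidHom.id CTwo) (fun c => by
    refine MonoidHom.ext fun p => ?_
    have h' : ∀ c : CTwo, c = 1 ∨ c = Multiplicative.ofAdd 1 := by decide
    rcases h' c with rfl | rfl
    · simp
    · rfl)

theorem wShift_spec : ∀ w : W, (wShift w ∈ vTwo ↔ w ∈ vOne) ∧ (wShift w ∈ vOne ↔ w ∈ vTwo) ∧
    (wShift w = 1 → w = 1) := by decide +kernel

theorem wShift_bij : Function.Bijective wShift := by
  have hinj : Function.Injective wShift :=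
    (injective_iff_map_eq_one _).2 fun w hw => (wShift_spec w).2.2 hw
  exact ⟨hinj, Finite.surjective_of_injective hinj⟩

theorem central_cases : ∀ x : W, (∀ g ∈ ([pr (sr 0) 1, pr (sr 1) 1, tau] : List W), g * x = x * g) →
    x = 1 ∨ x = pr (r 2) (r 2) := by decide +kernel

namespace Frame

variable [Finite S] {P : Subgroup S} {ψ : W →* S} (F : Frame P ψ)
include F

theorem shift : Frame P (ψ.comp wShift) :=
  ⟨F.inj.comp wShift_bij.1, by
    rw [← F.range]
    refine le_antisymm (fun x ⟨w, hw⟩ => ⟨_, hw⟩) ?_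
    rintro x ⟨w, rfl⟩
    obtain ⟨v, rfl⟩ := wShift_bij.2 w
    exact ⟨v, rfl⟩, F.two, F.rank⟩

theorem mem_P (w : W) : ψ w ∈ P := F.range ▸ ⟨w, rfl⟩

theorem exists_pre {x : S} (h : x ∈ P) : ∃ w, ψ w = x := by rwa [← F.range] at h

theorem map_one_two : (vOne.map (ψ.comp wShift) : Subgroup S) = vTwo.map ψ := by
  rw [← Subgroup.map_map]
  congr 1
  ext w
  refine ⟨?_, fun hw => ?_⟩
  · rintro ⟨v, hv, rfl⟩
    exact (wShift_spec v).1.2 hv
  · obtain ⟨v, rfl⟩ := wShift_bij.2 w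
    exact ⟨v, (wShift_spec v).1.1 hw, rfl⟩

/-- The section used for contradictions. -/
theorem base_five {x : S} (hx : x ∉ base.map ψ)
    (hc : ∀ u ∈ base, x * ψ u * x⁻¹ * (ψ u)⁻¹ ∈ zBase.map ψ) (hx2 : x * x ∈ zBase.map ψ) :
    False := by
  have hle : zBase ≤ base := fun w hw => hw.1
  refine no_five F.rank (map_mono hle) ?_ ?_ hx ?_ hx2
  · rw [relIndex_map_map_of_injective _ _ F.inj]
    have h := relIndex_mul_relIndex (⊥ : Subgroup W) zBase base bot_le hle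
    rw [relIndex_bot_left, relIndex_bot_left, card_zBase, card_base] at h
    omega
  · rintro _ ⟨u, hu, rfl⟩
    exact ⟨u * u, (by decide +kernel : ∀ u : W, u ∈ base → u * u ∈ zBase) u hu, map_mul ψ u u⟩
  · rintro _ ⟨u, hu, rfl⟩
    exact hc u hu

theorem centralizer_range {x : S} (hx : ∀ w, ψ w * x = x * ψ w) :
    x = 1 ∨ x = ψ (pr (r 2) (r 2)) := by
  have hin : ∀ y : S, (∀ w, ψ w * y = y * ψ w) → y ∈ P → y = 1 ∨ y = ψ (pr (r 2) (r 2)) := by
    intro y hy hyP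
    obtain ⟨v, rfl⟩ := F.exists_pre hyP
    rcases central_cases v (fun g _ => F.inj (by rw [map_mul, map_mul]; exact hy g)) with rfl | rfl
    exacts [Or.inl (map_one ψ), Or.inr rfl]
  by_cases hxP : x ∈ P
  · exact hin x hx hxP
  obtain ⟨n, hn⟩ := F.two x
  obtain ⟨m, hm, hm2⟩ := exists_power_outside n x hn hxP
  have hy : ∀ w, ψ w * x ^ m = x ^ m * ψ w := fun w => (Commute.pow_right (hx w) m).eq
  refine absurd (F.base_five (x := x ^ m) ?_ (fun u _ => ?_) ?_) not_false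
  · rintro ⟨u, -, hu⟩
    exact hm (hu ▸ F.mem_P u)
  · rw [← hy u, mul_inv_cancel_right, mul_inv_cancel]
    exact one_mem _
  · rcases hin _ (fun w => (Commute.mul_right (hy w) (hy w)).eq) hm2 with h | h <;> rw [h]
    · exact one_mem _
    · exact mem_map_of_mem ψ (by decide)

theorem centralizer_vOne : centralizer ((vOne.map ψ : Subgroup S) : Set S) = vOne.map ψ := by
  set V := vOne.map ψ with hV
  set C := centralizer (V : Set S) with hCdef
  have hVC : V ≤ C := by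
    rintro _ ⟨v, hv, rfl⟩
    refine mem_centralizer_iff.2 ?_
    rintro _ ⟨u, hu, rfl⟩
    rw [← map_mul, ← map_mul]
    exact congrArg ψ ((by decide +kernel : ∀ u v : W, u ∈ vOne → v ∈ vOne → u * v = v * u) u v hu hv)
  have hCP : ∀ w, ψ w ∈ C → w ∈ vOne := by
    intro w hw
    have hh : ∀ v ∈ vOne, v * w = w * v := fun v hv => F.inj (by
      rw [map_mul, map_mul]; exact mem_centralizer_iff.1 hw _ (mem_map_of_mem ψ hv))
    exact (by decide +kernel : ∀ w : W, pr (sr 0) 1 * w = w * pr (sr 0) 1 →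
      pr 1 (sr 0) * w = w * pr 1 (sr 0) → pr (r 2) 1 * w = w * pr (r 2) 1 → w ∈ vOne) w
      (hh _ (by decide)) (hh _ (by decide)) (hh _ (by decide))
  refine le_antisymm ?_ hVC
  by_contra hnot
  have hPV : P ≤ normalizer (V : Set S) := fun g hg => by
    obtain ⟨p, rfl⟩ := F.exists_pre hg
    have key : ∀ p : W, ∀ x ∈ V, ψ p * x * (ψ p)⁻¹ ∈ V := by
      rintro p _ ⟨v, hv, rfl⟩
      rw [← map_inv, ← map_mul, ← map_mul]
      exact mem_map_of_mem ψ
        ((by decide +kernel : ∀ p v : W, v ∈ vOne → p * v * p⁻¹ ∈ vOne) p v hv)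
    refine mem_normalizer_iff.2 fun x => ⟨key p x, fun hx => ?_⟩
    have h := key p⁻¹ _ hx
    rw [map_inv] at h
    group at h
    exact h
  have hPC : P ≤ normalizer (C : Set S) := fun g hg => by
    have key : ∀ g ∈ P, ∀ x ∈ C, g * x * g⁻¹ ∈ C := fun g hg x hx => by
      refine mem_centralizer_iff.2 fun y hy => ?_
      have h1 := mem_centralizer_iff.1 hx _
        ((mem_normalizer_iff.1 (hPV (inv_mem hg)) y).1 hy)
      rw [inv_inv] at h1
      calc y * (g * x * g⁻¹) = g * (g⁻¹ * y * g * x) * g⁻¹ := by group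
        _ = g * x * g⁻¹ * y := by rw [h1]; group
    refine mem_normalizer_iff.2 fun x => ⟨key g hg x, fun hx => ?_⟩
    have h := key g⁻¹ (inv_mem hg) _ hx
    group at h
    exact h
  set H := P ⊔ C with hH
  have hCV : C ≤ normalizer (V : Set S) := by
    refine fun c hc => mem_normalizer_iff.2 fun x => ⟨fun hx => ?_, fun hx => ?_⟩
    · rwa [← mem_centralizer_iff.1 hc x hx, mul_inv_cancel_right]
    · have h := mem_centralizer_iff.1 hc _ hx
      have e : x = c * x * c⁻¹ := by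
        calc x = c⁻¹ * (c * x * c⁻¹ * c) := by group
          _ = c * x * c⁻¹ := by rw [h, inv_mul_cancel_left]
      rw [e]; exact hx
  haveI hVn : (V.subgroupOf H).Normal :=
    (normal_subgroupOf_iff_le_normalizer (hVC.trans le_sup_right)).2 (sup_le hPV hCV)
  haveI hCn : (C.subgroupOf H).Normal :=
    (normal_subgroupOf_iff_le_normalizer le_sup_right).2 (sup_le hPC le_normalizer)
  obtain ⟨⟨x, hxH⟩, hxC, hxV, hx2, hcen⟩ := SelfCentEight.exists_central_mod
    (F.two.to_subgroup H) (E := V.subgroupOf H) (X := C.subgroupOf H) (fun hle => hnot fun c hc =>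
      mem_subgroupOf.1 (hle (show (⟨c, (le_sup_right : C ≤ H) hc⟩ : H) ∈ C.subgroupOf H from hc)))
  have hxV' : x ∉ V := hxV
  have hxC' : x ∈ C := hxC
  have hx2' : x ^ 2 ∈ V := hx2
  have hd : ∀ w, ψ w * x * (ψ w)⁻¹ * x⁻¹ ∈ V := fun w =>
    hcen ⟨ψ w, (le_sup_left : P ≤ H) (F.mem_P w)⟩
  have hvx : ∀ v ∈ V, v * x = x * v := fun v hv => mem_centralizer_iff.1 hxC' v hv
  have hx2z : x * x ∈ zBase.map ψ := by
    have hfix : ∀ w, ψ w * (x * x) = x * x * ψ w := by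
      intro w
      have hv := hd w
      set v := ψ w * x * (ψ w)⁻¹ * x⁻¹ with hvdef
      have hvv : v * v = 1 := by
        obtain ⟨a, ha, hav⟩ := hv
        rw [← hav, ← map_mul, (by decide +kernel : ∀ a : W, a ∈ vOne → a * a = 1) a ha, map_one]
      have h2 : ψ w * (x * x) * (ψ w)⁻¹ = x * x := by
        calc ψ w * (x * x) * (ψ w)⁻¹ = v * x * (v * x) := by rw [hvdef]; group
          _ = v * v * (x * x) := by
            rw [mul_assoc v x, ← mul_assoc x v x, ← hvx v hv]; simp only [mul_assoc]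
          _ = x * x := by rw [hvv, one_mul]
      exact mul_inv_eq_iff_eq_mul.1 h2
    rw [← pow_two] at hfix
    rcases F.centralizer_range hfix with h | h <;> rw [← pow_two, h]
    · exact one_mem _
    · exact mem_map_of_mem ψ (by decide)
  refine F.base_five (x := x) ?_ ?_ hx2z
  · rintro ⟨u, -, hu⟩
    exact hxV' (hu ▸ mem_map_of_mem ψ (hCP u (hu ▸ hxC')))
  -- the two generators outside `V`
  obtain ⟨a, ha, hav⟩ := hd (pr (sr 1) 1)
  obtain ⟨b, hb, hbv⟩ := hd (pr 1 (sr 1))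
  have conj2 : ∀ (p q c d : W), ψ c = ψ p * x * (ψ p)⁻¹ * x⁻¹ → ψ d = ψ q * x * (ψ q)⁻¹ * x⁻¹ →
      ψ (p * q) * x * (ψ (p * q))⁻¹ * x⁻¹ = ψ (p * d * p⁻¹ * c) := by
    intro p q c d hc hd'
    simp only [map_mul, map_inv, hc, hd']
    group
  have hf : ∀ p c : W, p * p = 1 → c ∈ vOne → ψ c = ψ p * x * (ψ p)⁻¹ * x⁻¹ →
      p * c * p⁻¹ * c = 1 := fun p c hp _ hc => F.inj (by
    rw [← conj2 p p c c hc hc, hp, map_one]; group)
  have e1 : pr (sr 1) 1 * b * (pr (sr 1) 1)⁻¹ * a = pr 1 (sr 1) * a * (pr 1 (sr 1))⁻¹ * b := F.inj (by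
    rw [← conj2 _ _ a b hav hbv, ← conj2 _ _ b a hbv hav,
      show pr (sr 1) 1 * pr 1 (sr 1) = pr 1 (sr 1) * pr (sr 1) 1 by decide +kernel])
  have hab : a ∈ zBase ∧ b ∈ zBase := (by decide +kernel : ∀ a : W, a ∈ vOne →
      pr (sr 1) 1 * a * (pr (sr 1) 1)⁻¹ * a = 1 → ∀ b : W, b ∈ vOne →
      pr 1 (sr 1) * b * (pr 1 (sr 1))⁻¹ * b = 1 →
      pr (sr 1) 1 * b * (pr (sr 1) 1)⁻¹ * a = pr 1 (sr 1) * a * (pr 1 (sr 1))⁻¹ * b →
      a ∈ zBase ∧ b ∈ zBase) a ha (hf _ a (by decide +kernel) ha hav) b hb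
    (hf _ b (by decide +kernel) hb hbv) e1
  let K : Submonoid W :=
    { carrier := {u | u ∈ base ∧ ∃ c ∈ zBase, ψ c = ψ u * x * (ψ u)⁻¹ * x⁻¹}
      one_mem' := ⟨one_mem base, 1, one_mem zBase, by simp⟩
      mul_mem' := by
        rintro p q ⟨hp, c, hc, hc'⟩ ⟨hq, d, hd', hd''⟩
        refine ⟨mul_mem hp hq, p * d * p⁻¹ * c, mul_mem ?_ hc, (conj2 p q c d hc' hd'').symm⟩
        rw [(by decide +kernel : ∀ p d : W, p ∈ base → d ∈ zBase → p * d * p⁻¹ = d) p d hp hd']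
        exact hd' }
  have k1 : pr (sr 1) 1 ∈ K := ⟨by decide, a, hab.1, hav⟩
  have k2 : pr 1 (sr 1) ∈ K := ⟨by decide, b, hab.2, hbv⟩
  have k3 : ∀ v ∈ vOne, v ∈ K := fun v hv => ⟨hv.1, 1, one_mem _, by
    rw [map_one, hvx _ (mem_map_of_mem ψ hv)]; group⟩
  intro u hu
  obtain ⟨k, l, v, hv, e⟩ := (by decide +kernel : ∀ u : W, u ∈ base → ∃ k l : Fin 2, ∃ v : W,
    v ∈ vOne ∧ u = pr (sr 1) 1 ^ k.val * pr 1 (sr 1) ^ l.val * v) u hu
  have hK : u ∈ K := e ▸ mul_mem (mul_mem (pow_mem k1 _) (pow_mem k2 _)) (k3 v hv)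
  obtain ⟨-, c, hc, hc'⟩ := hK
  have : x * ψ u * x⁻¹ * (ψ u)⁻¹ = (ψ c)⁻¹ := by rw [hc']; group
  rw [this]
  exact inv_mem (mem_map_of_mem ψ hc)

theorem centralizer_base {x : S} (hx : ∀ u ∈ base, ψ u * x = x * ψ u) : x ∈ zBase.map ψ := by
  have h1 : x ∈ centralizer ((vOne.map ψ : Subgroup S) : Set S) := by
    refine mem_centralizer_iff.2 ?_
    rintro _ ⟨v, hv, rfl⟩
    exact hx v hv.1
  rw [F.centralizer_vOne] at h1
  obtain ⟨v, hv, rfl⟩ := h1
  refine mem_map_of_mem ψ ((by decide +kernel : ∀ v : W, v ∈ vOne →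
    pr (sr 1) 1 * v = v * pr (sr 1) 1 → pr 1 (sr 1) * v = v * pr 1 (sr 1) → v ∈ zBase) v hv
    (F.inj ?_) (F.inj ?_)) <;>
  · rw [map_mul, map_mul]
    exact hx _ (by decide)

/-- Conjugation by an element normalising `P`, read in the model. -/
theorem exists_theta {g : S} (hg : g ∈ normalizer (P : Set S)) :
    ∃ θ : W ≃* W, ∀ w, ψ (θ w) = g * ψ w * g⁻¹ := by
  have h : ∀ w, ∃ v, ψ v = g * ψ w * g⁻¹ := fun w =>
    F.exists_pre ((mem_normalizer_iff.1 hg _).1 (F.mem_P w))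
  choose f hf using h
  let θ : W →* W := MonoidHom.mk' f fun a b => F.inj (by
    rw [map_mul, hf, hf, hf, map_mul]; group)
  have hinj : Function.Injective θ := fun a b e => F.inj (by
    have e' : ψ (f a) = ψ (f b) := congrArg ψ e
    rw [hf, hf] at e'
    exact mul_left_cancel (mul_right_cancel e'))
  exact ⟨MulEquiv.ofBijective θ ⟨hinj, Finite.surjective_of_injective hinj⟩, hf⟩

omit F in
theorem theta_sixteen (θ : W ≃* W) {V : Subgroup W} (hV : V = vOne ∨ V = vTwo) :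
    V.map θ.toMonoidHom = vOne ∨ V.map θ.toMonoidHom = vTwo := by
  refine normal_sixteen ?_ ?_ ?_ ?_
  · rintro g _ ⟨v, hv, rfl⟩
    refine ⟨θ.symm g * v * (θ.symm g)⁻¹, ?_, by simp⟩
    rcases hV with rfl | rfl
    · exact (by decide +kernel : ∀ p v : W, v ∈ vOne → p * v * p⁻¹ ∈ vOne) _ v hv
    · exact (by decide +kernel : ∀ p v : W, v ∈ vTwo → p * v * p⁻¹ ∈ vTwo) _ v hv
  · rintro _ ⟨v, hv, rfl⟩
    rw [← map_mul]
    rcases hV with rfl | rfl
    · rw [(by decide +kernel : ∀ v : W, v ∈ vOne → v * v = 1) v hv, map_one]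
    · rw [(by decide +kernel : ∀ v : W, v ∈ vTwo → v * v = 1) v hv, map_one]
  · rintro _ ⟨v, hv, rfl⟩ _ ⟨u, hu, rfl⟩
    rw [← map_mul, ← map_mul]
    congr 1
    rcases hV with rfl | rfl
    · exact (by decide +kernel : ∀ u v : W, u ∈ vOne → v ∈ vOne → v * u = u * v) u v hu hv
    · exact (by decide +kernel : ∀ u v : W, u ∈ vTwo → v ∈ vTwo → v * u = u * v) u v hu hv
  · rw [Nat.card_congr (V.equivMapOfInjective _ θ.injective).toEquiv.symm]
    rcases hV with rfl | rfl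
    exacts [card_vOne, card_vTwo]

omit F in
theorem theta_swap (θ : W ≃* W) {A B : Subgroup W} (hAB : A = vOne ∧ B = vTwo ∨ A = vTwo ∧ B = vOne)
    {C : Subgroup W} (h : A.map θ.toMonoidHom = C) :
    B.map θ.toMonoidHom ≠ C ∧ (B.map θ.toMonoidHom = vOne ∨ B.map θ.toMonoidHom = vTwo) := by
  refine ⟨fun e => ?_, ?_⟩
  · have h2 := Subgroup.map_injective θ.injective (h.trans e.symm)
    have hne : vOne ≠ vTwo := fun e' => by
      have h3 : pr (sr 0) 1 ∈ vOne := by decide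
      rw [e'] at h3
      exact absurd h3 (by decide)
    rcases hAB with ⟨rfl, rfl⟩ | ⟨rfl, rfl⟩
    exacts [hne h2, hne h2.symm]
  · rcases hAB with ⟨-, rfl⟩ | ⟨-, rfl⟩
    exacts [theta_sixteen θ (Or.inr rfl), theta_sixteen θ (Or.inl rfl)]

theorem theta_center {g : S} (θ : W ≃* W) (_hθ : ∀ w, ψ (θ w) = g * ψ w * g⁻¹) :
    θ (pr (r 2) (r 2)) = pr (r 2) (r 2) := by
  have hz : ∀ w : W, w * θ (pr (r 2) (r 2)) = θ (pr (r 2) (r 2)) * w := fun w => by
    obtain ⟨v, rfl⟩ := θ.surjective w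
    rw [← map_mul, ← map_mul,
      (by decide +kernel : ∀ v : W, v * pr (r 2) (r 2) = pr (r 2) (r 2) * v) v]
  rcases central_cases _ (fun w _ => hz w) with h | h
  · rw [MulEquiv.map_eq_one_iff] at h
    exact absurd h (by decide)
  · exact h

/-- An element normalising `P` and `V₁` and fixing the first central involution is in the base. -/
theorem mem_base_of_stable {g : S} (hg : g ∈ normalizer (P : Set S)) {θ : W ≃* W}
    (hθ : ∀ w, ψ (θ w) = g * ψ w * g⁻¹) (h1 : vOne.map θ.toMonoidHom = vOne)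
    (hz : θ (pr (r 2) 1) = pr (r 2) 1) : g ∈ base.map ψ := by
  obtain ⟨hne, h2⟩ := theta_swap θ (A := vOne) (B := vTwo) (Or.inl ⟨rfl, rfl⟩) h1
  replace h2 := h2.resolve_left hne
  have hz2 : θ (pr 1 (r 2)) = pr 1 (r 2) := by
    rw [show pr 1 (r 2) = pr (r 2) 1 * pr (r 2) (r 2) by decide +kernel, map_mul, hz,
      F.theta_center θ hθ]
  have hzfix : ∀ c ∈ zBase, θ c = c := by
    intro c hc
    obtain ⟨k, l, rfl⟩ := (by decide +kernel : ∀ c : W, c ∈ zBase → ∃ k l : Fin 2,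
      c = pr (r 2) 1 ^ k.val * pr 1 (r 2) ^ l.val) c hc
    rw [map_mul, map_pow, map_pow, hz, hz2]
  have himg : ∀ (X : Subgroup W), X.map θ.toMonoidHom = X → ∀ v ∈ X, θ v ∈ X := fun X hX v hv =>
    hX ▸ mem_map_of_mem θ.toMonoidHom hv
  -- a generator of one side paired with the other side
  have pair : ∀ (X Y : Subgroup W), Y.map θ.toMonoidHom = Y → ∀ e z : W,
      (∀ y ∈ Y, e * y * e⁻¹ * y⁻¹ = 1 ∨ e * y * e⁻¹ * y⁻¹ = z) → θ z = z → e ∈ X →
      X.map θ.toMonoidHom = X → ∀ y ∈ Y, θ e * y * (θ e)⁻¹ * y⁻¹ = 1 ∨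
        θ e * y * (θ e)⁻¹ * y⁻¹ = z := by
    intro X Y hY e z he hzz _ _ y hy
    obtain ⟨y', hy', rfl⟩ := (hY.symm ▸ hy : y ∈ Y.map θ.toMonoidHom)
    simp only [MulEquiv.coe_toMonoidHom, ← map_inv, ← map_mul]
    rcases he y' hy' with h | h <;> rw [h]
    exacts [Or.inl (map_one θ), Or.inr hzz]
  have gen : ∀ e z : W, ∀ (X Y : Subgroup W), X.map θ.toMonoidHom = X → Y.map θ.toMonoidHom = Y →
      (∀ y ∈ Y, e * y * e⁻¹ * y⁻¹ = 1 ∨ e * y * e⁻¹ * y⁻¹ = z) → θ z = z → e ∈ X → e ∉ zBase →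
      (∀ w ∈ X, w ∉ zBase → (∀ y ∈ Y, w * y * w⁻¹ * y⁻¹ = 1 ∨ w * y * w⁻¹ * y⁻¹ = z) →
        w * e⁻¹ ∈ zBase) → θ e * e⁻¹ ∈ zBase := by
    intro e z X Y hX hY he hzz heX heZ key
    refine key _ (himg X hX e heX) (fun hin => heZ ?_) (pair X Y hY e z he hzz heX hX)
    have h := hzfix _ hin
    rw [θ.injective.eq_iff] at h
    exact h ▸ hin
  let K : Submonoid W :=
    { carrier := {u | u ∈ base ∧ θ u * u⁻¹ ∈ zBase}
      one_mem' := ⟨one_mem base, by rw [map_one, inv_one, mul_one]; exact one_mem _⟩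
      mul_mem' := by
        rintro p q ⟨hp, hp'⟩ ⟨hq, hq'⟩
        refine ⟨mul_mem hp hq, ?_⟩
        have h := mul_mem hp' hq'
        rw [show θ p * p⁻¹ * (θ q * q⁻¹) = θ p * (p⁻¹ * (θ q * q⁻¹) * p) * p⁻¹ by group,
          (by decide +kernel : ∀ p c : W, p ∈ base → c ∈ zBase → p⁻¹ * c * p = c) p _ hp hq'] at h
        rwa [map_mul, mul_inv_rev, show θ p * θ q * (q⁻¹ * p⁻¹) = θ p * (θ q * q⁻¹) * p⁻¹ by group] }
  have ke1 : pr (sr 0) 1 ∈ K := ⟨by decide, gen _ (pr (r 2) 1) vOne vTwo h1 h2 (by decide +kernel)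
    hz (by decide) (by decide) (by decide +kernel)⟩
  have ke2 : pr 1 (sr 0) ∈ K := ⟨by decide, gen _ (pr 1 (r 2)) vOne vTwo h1 h2 (by decide +kernel)
    hz2 (by decide) (by decide) (by decide +kernel)⟩
  have kf1 : pr (sr 1) 1 ∈ K := ⟨by decide, gen _ (pr (r 2) 1) vTwo vOne h2 h1 (by decide +kernel)
    hz (by decide) (by decide) (by decide +kernel)⟩
  have kf2 : pr 1 (sr 1) ∈ K := ⟨by decide, gen _ (pr 1 (r 2)) vTwo vOne h2 h1 (by decide +kernel)
    hz2 (by decide) (by decide) (by decide +kernel)⟩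
  have hall : ∀ u ∈ base, θ u * u⁻¹ ∈ zBase := by
    intro u hu
    obtain ⟨i, j, k, l, e⟩ := (by decide +kernel : ∀ u : W, u ∈ base → ∃ i j : Fin 4, ∃ k l : Fin 2,
      u = pr (sr 0) 1 ^ k.val * (pr (sr 0) 1 * pr (sr 1) 1) ^ i.val *
        (pr 1 (sr 0) ^ l.val * (pr 1 (sr 0) * pr 1 (sr 1)) ^ j.val)) u hu
    exact (e ▸ mul_mem (mul_mem (pow_mem ke1 _) (pow_mem (mul_mem ke1 kf1) _))
      (mul_mem (pow_mem ke2 _) (pow_mem (mul_mem ke2 kf2) _)) : u ∈ K).2
  by_contra hgU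
  refine F.base_five hgU (fun u hu => ?_) ?_
  · refine ⟨θ u * u⁻¹, hall u hu, ?_⟩
    rw [map_mul, map_inv, hθ]
  · refine F.centralizer_base fun u hu => ?_
    set c := θ u * u⁻¹ with hcdef
    have hθu : θ u = c * u := by rw [hcdef, inv_mul_cancel_right]
    have h2' : θ (θ u) = u := by
      rw [hθu, map_mul, hzfix c (hall u hu), hθu, ← mul_assoc,
        (by decide +kernel : ∀ c : W, c ∈ zBase → c * c = 1) c (hall u hu), one_mul]
    have h3 : g * (g * ψ u * g⁻¹) * g⁻¹ = ψ u := by rw [← hθ, ← hθ, h2']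
    calc ψ u * (g * g) = g * (g * ψ u * g⁻¹) * g⁻¹ * (g * g) := by rw [h3]
      _ = g * g * ψ u := by group

theorem theta_zOne {g : S} {θ : W ≃* W} (hθ : ∀ w, ψ (θ w) = g * ψ w * g⁻¹) :
    θ (pr (r 2) 1) = pr (r 2) 1 ∨ θ (pr (r 2) 1) = pr 1 (r 2) := by
  have hmem : θ (pr (r 2) 1) ∈ vOne ⊓ vTwo := by
    rcases theta_sixteen θ (V := vOne) (Or.inl rfl) with h | h
    · obtain ⟨hne, h2⟩ := theta_swap θ (A := vOne) (B := vTwo) (Or.inl ⟨rfl, rfl⟩) h
      exact mem_inf.2 ⟨h ▸ mem_map_of_mem θ.toMonoidHom (by decide),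
        h2.resolve_left hne ▸ mem_map_of_mem θ.toMonoidHom (by decide)⟩
    · obtain ⟨hne, h2⟩ := theta_swap θ (A := vOne) (B := vTwo) (Or.inl ⟨rfl, rfl⟩) h
      exact mem_inf.2 ⟨h2.resolve_right hne ▸ mem_map_of_mem θ.toMonoidHom (by decide),
        h ▸ mem_map_of_mem θ.toMonoidHom (by decide)⟩
  rcases (by decide +kernel : ∀ w : W, w ∈ vOne → w ∈ vTwo →
    w = pr (r 2) 1 ∨ w = pr 1 (r 2) ∨ w = 1 ∨ w = pr (r 2) (r 2)) _ hmem.1 hmem.2 with
    h | h | h | h
  · exact Or.inl h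
  · exact Or.inr h
  · rw [MulEquiv.map_eq_one_iff] at h
    exact absurd h (by decide)
  · rw [← F.theta_center θ hθ, θ.injective.eq_iff] at h
    exact absurd h (by decide)

theorem mem_P_of_stable {g : S} (hg : g ∈ normalizer (P : Set S)) {θ : W ≃* W}
    (hθ : ∀ w, ψ (θ w) = g * ψ w * g⁻¹) (h1 : vOne.map θ.toMonoidHom = vOne) : g ∈ P := by
  have htau : ψ tau ∈ normalizer (P : Set S) := le_normalizer (F.mem_P tau)
  rcases F.theta_zOne hθ with h | h
  · obtain ⟨u, -, hu⟩ := F.mem_base_of_stable hg hθ h1 h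
    exact hu ▸ F.mem_P u
  · obtain ⟨θ', hθ'⟩ := F.exists_theta (mul_mem htau hg)
    have e : ∀ w, θ' w = tau * θ w * tau⁻¹ := fun w => F.inj (by
      simp only [hθ', map_mul, map_inv, hθ]; group)
    have h1' : vOne.map θ'.toMonoidHom = vOne := by
      refine Subgroup.eq_of_le_of_card_ge ?_ (by
        rw [Nat.card_congr (vOne.equivMapOfInjective _ θ'.injective).toEquiv.symm])
      rintro _ ⟨v, hv, rfl⟩
      show θ' v ∈ vOne
      rw [e]
      refine (by decide +kernel : ∀ v : W, v ∈ vOne → tau * v * tau⁻¹ ∈ vOne) _ ?_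
      have h' := mem_map_of_mem θ.toMonoidHom hv
      rwa [h1] at h'
    have hz : θ' (pr (r 2) 1) = pr (r 2) 1 := by rw [e, h]; decide +kernel
    obtain ⟨u, -, hu⟩ := F.mem_base_of_stable (mul_mem htau hg) hθ' h1' hz
    have h' := mul_mem (inv_mem (F.mem_P tau)) (hu ▸ F.mem_P u : ψ tau * g ∈ P)
    rwa [inv_mul_cancel_left] at h'

theorem normalizer_vOne : normalizer ((vOne.map ψ : Subgroup S) : Set S) = P := by
  haveI : Fact (Nat.Prime 2) := ⟨Nat.prime_two⟩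
  set V := vOne.map ψ with hV
  set N := normalizer (V : Set S) with hN
  have hPN : P ≤ N := fun g hg => by
    obtain ⟨p, rfl⟩ := F.exists_pre hg
    have key : ∀ p : W, ∀ x ∈ V, ψ p * x * (ψ p)⁻¹ ∈ V := by
      rintro p _ ⟨v, hv, rfl⟩
      rw [← map_inv, ← map_mul, ← map_mul]
      exact mem_map_of_mem ψ
        ((by decide +kernel : ∀ p v : W, v ∈ vOne → p * v * p⁻¹ ∈ vOne) p v hv)
    refine mem_normalizer_iff.2 fun x => ⟨key p x, fun hx => ?_⟩
    have h := key p⁻¹ _ hx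
    rw [map_inv] at h
    group at h
    exact h
  refine le_antisymm ?_ hPN
  by_contra hnot
  haveI := (F.two.to_subgroup N).isNilpotent
  have hlt : P.subgroupOf N < ⊤ := lt_top_iff_ne_top.2 fun e => hnot (subgroupOf_eq_top.1 e)
  obtain ⟨⟨g, hgN⟩, hg, hgP⟩ :=
    SetLike.exists_of_lt (Group.normalizerCondition_of_isNilpotent _ hlt)
  have hgn : g ∈ normalizer (P : Set S) := by
    have h' : ∀ y ∈ P, g * y * g⁻¹ ∈ P := fun y hy =>
      mem_subgroupOf.1 ((mem_normalizer_iff.1 hg ⟨y, hPN hy⟩).1 hy)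
    have h'' : ∀ y ∈ P, g⁻¹ * y * g ∈ P := fun y hy => by
      have h0 := mem_subgroupOf.1 ((mem_normalizer_iff.1 (inv_mem hg) ⟨y, hPN hy⟩).1 hy)
      simpa using h0
    refine mem_normalizer_iff.2 fun y => ⟨h' y, fun hy => ?_⟩
    have h0 := h'' _ hy
    group at h0
    exact h0
  obtain ⟨θ, hθ⟩ := F.exists_theta hgn
  refine hgP (F.mem_P_of_stable hgn hθ ?_)
  refine Subgroup.eq_of_le_of_card_ge ?_ (by
    rw [Nat.card_congr (vOne.equivMapOfInjective _ θ.injective).toEquiv.symm])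
  rintro _ ⟨v, hv, rfl⟩
  obtain ⟨v', hv', e⟩ := (mem_normalizer_iff.1 hgN (ψ v)).1 (mem_map_of_mem ψ hv)
  have : θ v = v' := F.inj (by rw [hθ, e])
  show θ v ∈ vOne
  rw [this]; exact hv'

end Frame

end CfsgLib.PGroup.SectFourWreath
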