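import Cfsg.Agent.Lib.PGroup.SectFourWreath.Frame

/-!
# The normaliser of the model in a group of sectional rank four

Its index is two and its quotient by the centre is again isomorphic to the model.
-/

set_option autoImplicit false
set_option linter.unusedSectionVars false
set_option linter.style.haveILetI false

open Subgroup DihedralGroup

namespace CfsgLib.PGroup.SectFourWreath

/-- The automorphism exchanging the two generating involutions of a factor. -/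
def dFlip : DEight →* DEight :=
  MonoidHom.mk' (fun d => match d with | r i => r (-i) | sr i => sr (1 - i)) (by decide)

/-- Its extension to the model. -/
def wFlip : W →* W :=
  SemidirectProduct.map (dFlip.prodMap dFlip) (MonoidHom.id CTwo) (fun c => by
    refine MonoidHom.ext fun p => ?_
    have h' : ∀ c : CTwo, c = 1 ∨ c = Multiplicative.ofAdd 1 := by decide
    rcases h' c with rfl | rfl
    · simp
    · rfl)

/-- Congruence modulo the centre of the model. -/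
def Near (a b : W) : Prop := a = b ∨ a = b * pr (r 2) (r 2)

instance (a b : W) : Decidable (Near a b) := inferInstanceAs (Decidable (_ ∨ _))

variable {S : Type*} [Group S] [Finite S]

namespace Frame

variable {P : Subgroup S} {ψ : W →* S} (F : Frame P ψ)
include F

theorem mem_center_iff {x : S} : x ∈ center S ↔ x = 1 ∨ x = ψ (pr (r 2) (r 2)) := by
  haveI : Fact (Nat.Prime 2) := ⟨Nat.prime_two⟩
  refine ⟨fun hx => F.centralizer_range fun w => Subgroup.mem_center_iff.1 hx _, ?_⟩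
  rintro (rfl | rfl)
  · exact one_mem _
  · haveI : Nontrivial S := ⟨⟨ψ (pr (r 2) (r 2)), 1, fun e => absurd
      (F.inj (e.trans (map_one ψ).symm)) (by decide)⟩⟩
    haveI := F.two.center_nontrivial
    obtain ⟨⟨z, hz⟩, hz1⟩ := exists_ne (1 : center S)
    rcases F.centralizer_range (fun w => Subgroup.mem_center_iff.1 hz (ψ w)) with h | h
    · exact absurd (Subtype.ext h) hz1
    · exact h ▸ hz

theorem center_eq : center S = (center P).map P.subtype := by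
  refine le_antisymm (fun x hx => ?_) ?_
  · have hxP : x ∈ P := by
      rcases F.mem_center_iff.1 hx with rfl | rfl
      exacts [one_mem P, F.mem_P _]
    exact ⟨⟨x, hxP⟩, Subgroup.mem_center_iff.2 fun g => Subtype.ext (Subgroup.mem_center_iff.1 hx g), rfl⟩
  · rintro _ ⟨z, hz, rfl⟩
    refine F.mem_center_iff.2 (F.centralizer_range fun w => ?_)
    exact congrArg Subtype.val (Subgroup.mem_center_iff.1 hz ⟨ψ w, F.mem_P w⟩)

theorem card_center : Nat.card (center S) = 2 := by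
  have hne : ψ (pr (r 2) (r 2)) ≠ 1 := fun e =>
    absurd (F.inj (e.trans (map_one ψ).symm)) (by decide)
  refine Nat.card_eq_two_iff.2 ⟨1, ⟨_, F.mem_center_iff.2 (Or.inr rfl)⟩,
    fun e => hne (congrArg Subtype.val e).symm, Set.eq_univ_of_forall fun x => ?_⟩
  rcases F.mem_center_iff.1 x.2 with h | h
  · exact Or.inl (Subtype.ext h)
  · exact Or.inr (Subtype.ext h)

theorem card_P : Nat.card P = 128 := by
  rw [← F.range, ← Nat.card_congr (MonoidHom.ofInjective F.inj).toEquiv, card_eq]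

/-- A normal elementary subgroup of order sixteen of `P` has normaliser `P`. -/
theorem normalizer_sixteen {V : Subgroup S} (hV : V ≤ P) (hn : ∀ g ∈ P, ∀ v ∈ V, g * v * g⁻¹ ∈ V)
    (hc : IsMulCommutative V) (h2 : ∀ v ∈ V, v ^ 2 = 1) (h16 : Nat.card V = 16) :
    normalizer (V : Set S) = P := by
  have hVmap : (V.comap ψ).map ψ = V := by rw [map_comap_eq, F.range, inf_eq_right.2 hV]
  have hcard : Nat.card (V.comap ψ) = 16 := by
    rw [Nat.card_congr ((V.comap ψ).equivMapOfInjective ψ F.inj).toEquiv, hVmap, h16]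
  rcases normal_sixteen (V := V.comap ψ) (fun g v hv => by
      show ψ (g * v * g⁻¹) ∈ V
      rw [map_mul, map_mul, map_inv]; exact hn _ (F.mem_P g) _ hv)
    (fun v hv => F.inj (by rw [map_mul, map_one, ← pow_two]; exact h2 _ hv))
    (fun v hv u hu => F.inj (by
      rw [map_mul, map_mul]
      exact congrArg Subtype.val (hc.is_comm.comm (⟨ψ v, hv⟩ : V) ⟨ψ u, hu⟩))) hcard with h | h
  · rw [← hVmap, h]; exact F.normalizer_vOne
  · rw [← hVmap, h, ← F.map_one_two]; exact F.shift.normalizer_vOne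

theorem swap_of_notMem {g : S} (hg : g ∈ normalizer (P : Set S)) (hgP : g ∉ P) {θ : W ≃* W}
    (hθ : ∀ w, ψ (θ w) = g * ψ w * g⁻¹) :
    vOne.map θ.toMonoidHom = vTwo ∧ vTwo.map θ.toMonoidHom = vOne := by
  have h1 : vOne.map θ.toMonoidHom = vTwo :=
    (theta_sixteen θ (Or.inl rfl)).resolve_left fun h => hgP (F.mem_P_of_stable hg hθ h)
  obtain ⟨hne, h2⟩ := theta_swap θ (A := vOne) (B := vTwo) (Or.inl ⟨rfl, rfl⟩) h1
  exact ⟨h1, h2.resolve_right hne⟩

theorem mul_mem_of_notMem {g k : S} (hg : g ∈ normalizer (P : Set S)) (hgP : g ∉ P)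
    (hk : k ∈ normalizer (P : Set S)) (hkP : k ∉ P) : g * k ∈ P := by
  obtain ⟨α, hα⟩ := F.exists_theta hg
  obtain ⟨β, hβ⟩ := F.exists_theta hk
  have hαβ : ∀ w, ψ ((β.trans α) w) = g * k * ψ w * (g * k)⁻¹ := fun w => by
    show ψ (α (β w)) = _
    rw [hα, hβ]; group
  refine F.mem_P_of_stable (mul_mem hg hk) hαβ ?_
  have : (β.trans α).toMonoidHom = α.toMonoidHom.comp β.toMonoidHom := MonoidHom.ext fun w => rfl
  rw [this, ← Subgroup.map_map, (F.swap_of_notMem hk hkP hβ).1, (F.swap_of_notMem hg hgP hα).2]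

theorem exists_notMem (hne : P ≠ ⊤) : ∃ g ∈ normalizer (P : Set S), g ∉ P := by
  haveI : Fact (Nat.Prime 2) := ⟨Nat.prime_two⟩
  haveI := F.two.isNilpotent
  exact SetLike.exists_of_lt
    (Group.normalizerCondition_of_isNilpotent P (lt_top_iff_ne_top.2 hne))

theorem relIndex_normalizer (hne : P ≠ ⊤) : P.relIndex (normalizer (P : Set S)) = 2 := by
  obtain ⟨g, hg, hgP⟩ := F.exists_notMem hne
  refine Subgroup.index_eq_two_iff.2 ⟨⟨g, hg⟩, fun b => ?_⟩
  simp only [mem_subgroupOf, Subgroup.coe_mul]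
  by_cases hb : (b : S) ∈ P
  · exact Or.inr ⟨hb, fun h => hgP ((mul_mem_cancel_left hb).1 h)⟩
  · exact Or.inl ⟨F.mul_mem_of_notMem b.2 hb hg hgP, hb⟩

theorem theta_pair {g : S} {θ : W ≃* W} (_hθ : ∀ w, ψ (θ w) = g * ψ w * g⁻¹) {X Y X' Y' : Subgroup W}
    (hX : X.map θ.toMonoidHom = X') (hY : Y.map θ.toMonoidHom = Y') {e z : W} (he : e ∈ X)
    (hey : ∀ y ∈ Y, e * y * e⁻¹ * y⁻¹ = 1 ∨ e * y * e⁻¹ * y⁻¹ = z) (hz : θ z = z) :
    θ e ∈ X' ∧ ∀ y ∈ Y', θ e * y * (θ e)⁻¹ * y⁻¹ = 1 ∨ θ e * y * (θ e)⁻¹ * y⁻¹ = z := by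
  refine ⟨hX ▸ mem_map_of_mem θ.toMonoidHom he, fun y hy => ?_⟩
  obtain ⟨y', hy', rfl⟩ := (hY.symm ▸ hy : y ∈ Y.map θ.toMonoidHom)
  simp only [MulEquiv.coe_toMonoidHom, ← map_inv, ← map_mul]
  rcases hey y' hy' with h | h <;> rw [h]
  exacts [Or.inl (map_one θ), Or.inr hz]

theorem exists_good (hne : P ≠ ⊤) : ∃ g ∈ normalizer (P : Set S), g ∉ P ∧ ∃ θ : W ≃* W,
    (∀ w, ψ (θ w) = g * ψ w * g⁻¹) ∧ Near (θ (pr (sr 0) 1)) (pr (sr 1) 1) ∧
      Near (θ (pr (sr 1) 1)) (pr (sr 0) 1) ∧ Near (θ tau) tau ∧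
      (g * g = 1 ∨ g * g = ψ (pr (r 2) (r 2))) := by
  obtain ⟨g₀, hg₀, hg₀P⟩ := F.exists_notMem hne
  have hnorm : ∀ w, ψ w ∈ normalizer (P : Set S) := fun w => le_normalizer (F.mem_P w)
  -- fix the first central involution
  obtain ⟨g₁, hg₁, hg₁P, θ₁, hθ₁, hz⟩ : ∃ g ∈ normalizer (P : Set S), g ∉ P ∧ ∃ θ : W ≃* W,
      (∀ w, ψ (θ w) = g * ψ w * g⁻¹) ∧ θ (pr (r 2) 1) = pr (r 2) 1 := by
    obtain ⟨θ, hθ⟩ := F.exists_theta hg₀
    rcases F.theta_zOne hθ with h | h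
    · exact ⟨g₀, hg₀, hg₀P, θ, hθ, h⟩
    · obtain ⟨θ', hθ'⟩ := F.exists_theta (mul_mem (hnorm tau) hg₀)
      have e : ∀ w, θ' w = tau * θ w * tau⁻¹ := fun w => F.inj (by
        simp only [hθ', map_mul, map_inv, hθ]; group)
      exact ⟨ψ tau * g₀, mul_mem (hnorm tau) hg₀,
        fun h' => hg₀P ((mul_mem_cancel_left (F.mem_P tau)).1 h'), θ', hθ',
        by rw [e, h]; decide +kernel⟩
  obtain ⟨h12, h21⟩ := F.swap_of_notMem hg₁ hg₁P hθ₁
  have hz2 : θ₁ (pr 1 (r 2)) = pr 1 (r 2) := by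
    rw [show pr 1 (r 2) = pr (r 2) 1 * pr (r 2) (r 2) by decide +kernel, map_mul, hz,
      F.theta_center θ₁ hθ₁]
  have hnz : ∀ e : W, e ∉ zBase → θ₁ e ∉ zBase := by
    intro e he hin
    refine he ?_
    obtain ⟨k, l, hkl⟩ := (by decide +kernel : ∀ c : W, c ∈ zBase → ∃ k l : Fin 2,
      c = pr (r 2) 1 ^ k.val * pr 1 (r 2) ^ l.val) _ hin
    have : θ₁ e = θ₁ (pr (r 2) 1 ^ k.val * pr 1 (r 2) ^ l.val) := by
      rw [map_mul, map_pow, map_pow, hz, hz2, hkl]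
    rw [θ₁.injective this]
    exact mul_mem (pow_mem (by decide) _) (pow_mem (by decide) _)
  have a1 := F.theta_pair hθ₁ h12 h21 (e := pr (sr 0) 1) (z := pr (r 2) 1) (by decide)
    (by decide +kernel) hz
  have a2 := F.theta_pair hθ₁ h12 h21 (e := pr 1 (sr 0)) (z := pr 1 (r 2)) (by decide)
    (by decide +kernel) hz2
  have b1 := F.theta_pair hθ₁ h21 h12 (e := pr (sr 1) 1) (z := pr (r 2) 1) (by decide)
    (by decide +kernel) hz
  have b2 := F.theta_pair hθ₁ h21 h12 (e := pr 1 (sr 1)) (z := pr 1 (r 2)) (by decide)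
    (by decide +kernel) hz2
  have a1' : (pr (sr 1) 1)⁻¹ * θ₁ (pr (sr 0) 1) ∈ zBase :=
    (by decide +kernel : ∀ w : W, w ∈ vTwo → w ∉ zBase → (∀ y : W, y ∈ vOne →
      w * y * w⁻¹ * y⁻¹ = 1 ∨ w * y * w⁻¹ * y⁻¹ = pr (r 2) 1) → (pr (sr 1) 1)⁻¹ * w ∈ zBase)
      _ a1.1 (hnz _ (by decide)) a1.2
  have a2' : (pr 1 (sr 1))⁻¹ * θ₁ (pr 1 (sr 0)) ∈ zBase :=
    (by decide +kernel : ∀ w : W, w ∈ vTwo → w ∉ zBase → (∀ y : W, y ∈ vOne →
      w * y * w⁻¹ * y⁻¹ = 1 ∨ w * y * w⁻¹ * y⁻¹ = pr 1 (r 2)) → (pr 1 (sr 1))⁻¹ * w ∈ zBase)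
      _ a2.1 (hnz _ (by decide)) a2.2
  have b1' : (pr (sr 0) 1)⁻¹ * θ₁ (pr (sr 1) 1) ∈ zBase :=
    (by decide +kernel : ∀ w : W, w ∈ vOne → w ∉ zBase → (∀ y : W, y ∈ vTwo →
      w * y * w⁻¹ * y⁻¹ = 1 ∨ w * y * w⁻¹ * y⁻¹ = pr (r 2) 1) → (pr (sr 0) 1)⁻¹ * w ∈ zBase)
      _ b1.1 (hnz _ (by decide)) b1.2
  have b2' : (pr 1 (sr 0))⁻¹ * θ₁ (pr 1 (sr 1)) ∈ zBase :=
    (by decide +kernel : ∀ w : W, w ∈ vOne → w ∉ zBase → (∀ y : W, y ∈ vTwo →
      w * y * w⁻¹ * y⁻¹ = 1 ∨ w * y * w⁻¹ * y⁻¹ = pr 1 (r 2)) → (pr 1 (sr 0))⁻¹ * w ∈ zBase)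
      _ b2.1 (hnz _ (by decide)) b2.2
  -- adjust by an element of the base
  obtain ⟨u, hu, c1, c2, c3, c4⟩ := (by decide +kernel : ∀ c1 : W, c1 ∈ zBase → ∀ c2 : W,
    c2 ∈ zBase → ∀ c3 : W, c3 ∈ zBase → ∀ c4 : W, c4 ∈ zBase → ∃ u : W, u ∈ base ∧
      Near (u * (pr (sr 1) 1 * c1) * u⁻¹) (pr (sr 1) 1) ∧
      Near (u * (pr (sr 0) 1 * c2) * u⁻¹) (pr (sr 0) 1) ∧
      Near (u * (pr 1 (sr 1) * c3) * u⁻¹) (pr 1 (sr 1)) ∧
      Near (u * (pr 1 (sr 0) * c4) * u⁻¹) (pr 1 (sr 0))) _ a1' _ b1' _ a2' _ b2'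
  simp only [mul_inv_cancel_left] at c1 c2 c3 c4
  obtain ⟨θ, hθ⟩ := F.exists_theta (mul_mem (hnorm u) hg₁)
  have e : ∀ w, θ w = u * θ₁ w * u⁻¹ := fun w => F.inj (by
    simp only [hθ, map_mul, map_inv, hθ₁]; group)
  set g := ψ u * g₁ with hgdef
  have hgn : g ∈ normalizer (P : Set S) := mul_mem (hnorm u) hg₁
  have hgP : g ∉ P := fun h' => hg₁P ((mul_mem_cancel_left (F.mem_P u)).1 h')
  rw [← e] at c1 c2 c3 c4
  have hc : θ (pr (r 2) 1) = pr (r 2) 1 := by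
    rw [e, hz]
    exact (by decide +kernel : ∀ u : W, u ∈ base → u * pr (r 2) 1 * u⁻¹ = pr (r 2) 1) u hu
  have hzz := F.theta_center θ hθ
  have hc2 : θ (pr 1 (r 2)) = pr 1 (r 2) := by
    rw [show pr 1 (r 2) = pr (r 2) 1 * pr (r 2) (r 2) by decide +kernel, map_mul, hc, hzz]
  have hflip : ∀ w, θ tau * θ w * (θ tau)⁻¹ = θ (tau * w * tau⁻¹) := fun w => by
    rw [map_mul, map_mul, map_inv]
  have ht1 := hflip (pr (sr 0) 1)
  rw [show tau * pr (sr 0) 1 * tau⁻¹ = pr 1 (sr 0) by decide +kernel] at ht1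
  have ht2 := hflip (pr (sr 1) 1)
  rw [show tau * pr (sr 1) 1 * tau⁻¹ = pr 1 (sr 1) by decide +kernel] at ht2
  have ht3 := hflip (pr (r 2) 1)
  rw [show tau * pr (r 2) 1 * tau⁻¹ = pr 1 (r 2) by decide +kernel, hc, hc2] at ht3
  have ht4 : θ tau * θ tau = 1 := by
    rw [← map_mul, show tau * tau = 1 by decide +kernel, map_one]
  have ht : Near (θ tau) tau := by
    refine (by decide +kernel : ∀ w : W, w * w = 1 → w * pr (r 2) 1 * w⁻¹ = pr 1 (r 2) →
      (∀ a ∈ ([pr (sr 1) 1, pr (sr 1) 1 * pr (r 2) (r 2)] : List W),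
        Near (w * a * w⁻¹) (pr 1 (sr 1)) → ∀ b ∈ ([pr (sr 0) 1, pr (sr 0) 1 * pr (r 2) (r 2)] : List W),
        Near (w * b * w⁻¹) (pr 1 (sr 0)) → Near w tau)) (θ tau) ht4 ht3 (θ (pr (sr 0) 1)) ?_ ?_
      (θ (pr (sr 1) 1)) ?_ ?_
    · simp only [List.mem_cons, List.not_mem_nil, or_false]; exact c1
    · rw [ht1]; exact c3
    · simp only [List.mem_cons, List.not_mem_nil, or_false]; exact c2
    · rw [ht2]; exact c4
  refine ⟨g, hgn, hgP, θ, hθ, c1, c2, ht, ?_⟩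
  obtain ⟨p, hp⟩ := F.exists_pre (F.mul_mem_of_notMem hgn hgP hgn hgP)
  have hp2 : ∀ w, θ (θ w) = p * w * p⁻¹ := fun w => F.inj (by
    rw [hθ, hθ, map_mul, map_mul, map_inv, hp]; group)
  have near2 : ∀ a b c : W, Near (θ a) b → Near (θ b) c → Near (θ (θ a)) c := by
    intro a b c h1 h2
    rcases h1 with h1 | h1 <;> rcases h2 with h2 | h2
    · exact Or.inl (by rw [h1, h2])
    · exact Or.inr (by rw [h1, h2])
    · exact Or.inr (by rw [h1, map_mul, h2, hzz])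
    · exact Or.inl (by rw [h1, map_mul, h2, hzz, mul_assoc,
        show pr (r 2) (r 2) * pr (r 2) (r 2) = 1 by decide +kernel, mul_one])
  have hptau : p * tau * p⁻¹ = tau := by
    rw [← hp2]
    rcases ht with h | h
    · rw [h, h]
    · rw [h, map_mul, h, hzz, mul_assoc,
        show pr (r 2) (r 2) * pr (r 2) (r 2) = 1 by decide +kernel, mul_one]
  rw [← hp]
  rcases (by decide +kernel : ∀ p : W, p * pr (r 2) 1 * p⁻¹ = pr (r 2) 1 →
      Near (p * pr (sr 0) 1 * p⁻¹) (pr (sr 0) 1) → Near (p * pr (sr 1) 1 * p⁻¹) (pr (sr 1) 1) →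
      p * tau * p⁻¹ = tau → p = 1 ∨ p = pr (r 2) (r 2)) p (by rw [← hp2, hc, hc])
      (hp2 _ ▸ near2 _ _ _ c1 c2) (hp2 _ ▸ near2 _ _ _ c2 c1) hptau with rfl | rfl
  exacts [Or.inl (map_one ψ), Or.inr rfl]

theorem quotient_equiv (hne : P ≠ ⊤)
    [((center S).subgroupOf (normalizer (P : Set S))).Normal] :
    Nonempty (W ≃* normalizer (P : Set S) ⧸ (center S).subgroupOf (normalizer (P : Set S))) := by
  obtain ⟨g, hg, hgP, θ, hθ, he, hf, ht, hg2⟩ := F.exists_good hne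
  set N := normalizer (P : Set S) with hN
  let π : N →* N ⧸ (center S).subgroupOf N := QuotientGroup.mk' _
  have hker : ∀ x : N, (x : S) ∈ center S → π x = 1 := fun x hx => (QuotientGroup.eq_one_iff x).2 hx
  let ρ : W →* N ⧸ (center S).subgroupOf N :=
    π.comp (ψ.codRestrict N fun w => le_normalizer (F.mem_P w))
  set H := π ⟨g, hg⟩ with hH
  have hρz : ρ (pr (r 2) (r 2)) = 1 := hker _ (F.mem_center_iff.2 (Or.inr rfl))
  have hnear : ∀ a b : W, Near a b → ρ a = ρ b := by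
    rintro a b (rfl | rfl)
    · rfl
    · rw [map_mul, hρz, mul_one]
  have hH2 : H * H = 1 := by
    rw [hH, ← map_mul]
    exact hker _ (F.mem_center_iff.2 hg2)
  have hHi : H⁻¹ = H := inv_eq_of_mul_eq_one_right hH2
  have hconj : ∀ w, H * ρ w * H = ρ (wFlip w) := by
    intro w
    have h1 : H * ρ w * H⁻¹ = ρ (θ w) := by
      show π _ * π _ * (π _)⁻¹ = π _
      rw [← map_inv, ← map_mul, ← map_mul]
      exact congrArg π (Subtype.ext (hθ w).symm)
    rw [hHi] at h1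
    rw [h1]
    exact mem_of_gens (K := (ρ.comp θ.toMonoidHom).eqLocus (ρ.comp wFlip))
      ((hnear _ _ he).trans (congrArg ρ (by decide +kernel)))
      ((hnear _ _ hf).trans (congrArg ρ (by decide +kernel)))
      ((hnear _ _ ht).trans (congrArg ρ (by decide +kernel))) w
  obtain ⟨u₀, hu₀⟩ : ∃ u : W, u = tau * pr (sr 0) 1 * pr 1 (sr 0) := ⟨_, rfl⟩
  obtain ⟨y, hy⟩ : ∃ y, y = H * ρ tau := ⟨_, rfl⟩
  have hyw : ∀ w, y * ρ w = ρ (wFlip (tau * w * tau)) * y := by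
    intro w
    have htt : ρ tau * ρ tau = 1 := by
      rw [← map_mul, show tau * tau = 1 by decide +kernel, map_one]
    rw [hy, ← hconj, map_mul, map_mul]
    calc H * ρ tau * ρ w = H * (ρ tau * ρ w * (ρ tau * ρ tau)) * 1 := by
          rw [htt, mul_one, mul_one, mul_assoc]
      _ = H * (ρ tau * ρ w * (ρ tau * ρ tau)) := mul_one _
      _ = H * (ρ tau * ρ w * ρ tau) * (H * H) * ρ tau := by rw [hH2]; group
      _ = _ := by group
  have hy2 : y * y = 1 := by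
    conv_lhs => arg 2; rw [hy]
    rw [hy, show H * ρ tau * (H * ρ tau) = H * ρ tau * H * ρ tau by group, hconj, ← map_mul,
      show wFlip tau * tau = 1 by decide +kernel, map_one]
  have htyt : ρ (pr (sr 0) 1) * y * ρ (pr (sr 0) 1) =
      ρ (pr (sr 0) 1 * wFlip (tau * pr (sr 0) 1 * tau)) * y := by
    rw [mul_assoc, hyw, ← mul_assoc, ← map_mul]
  have hone : ∀ a : W, Near a 1 → ρ a = 1 := fun a h => (hnear a 1 h).trans (map_one ρ)
  have hrel : Rel (ρ u₀) y (ρ (pr (sr 0) 1)) := by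
    refine ⟨?_, hy2, ?_, ?_, ?_, ?_, ?_⟩
    · rw [← map_mul]; exact hone _ (by rw [hu₀]; decide +kernel)
    · rw [← map_mul]; exact hone _ (by decide +kernel)
    · have h2 : (ρ u₀ * y) * (ρ u₀ * y) = ρ (u₀ * wFlip (tau * u₀ * tau)) := by
        rw [mul_assoc, ← mul_assoc y, hyw, mul_assoc (ρ (wFlip _)), hy2, mul_one, ← map_mul]
      rw [show (ρ u₀ * y) ^ 4 = ρ u₀ * y * (ρ u₀ * y) * (ρ u₀ * y * (ρ u₀ * y)) by
          simp only [pow_succ, pow_zero, one_mul, mul_assoc], h2, ← map_mul]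
      exact hone _ (by rw [hu₀]; decide +kernel)
    · show ρ u₀ * _ = _ * ρ u₀
      simp only [← map_mul]
      exact hnear _ _ (by rw [hu₀]; decide +kernel)
    · show ρ u₀ * _ = _ * ρ u₀
      rw [htyt, mul_assoc (ρ _) y (ρ u₀), hyw, ← mul_assoc, ← mul_assoc, ← map_mul, ← map_mul]
      congr 1
      exact hnear _ _ (by rw [hu₀]; decide +kernel)
    · show y * _ = _ * y
      rw [htyt, ← mul_assoc, hyw, mul_assoc, hy2, mul_one, mul_assoc (ρ _) y y, hy2, mul_one]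
      exact hnear _ _ (by decide +kernel)
  obtain ⟨φ, h1, h2, h3⟩ := exists_hom hrel
  have hX : ρ (pr (sr 0) 1) ∈ φ.range := ⟨tau, h3⟩
  have hT : ρ tau ∈ φ.range := by
    have h := mul_mem (mul_mem hX (⟨_, h1⟩ : ρ u₀ ∈ φ.range)) hX
    rwa [← map_mul, ← map_mul, hnear _ tau (by rw [hu₀]; decide +kernel)] at h
  have hHm : H ∈ φ.range := by
    have h := mul_mem (⟨_, h2⟩ : y ∈ φ.range) hT
    rwa [hy, mul_assoc, ← map_mul, show tau * tau = 1 by decide +kernel, map_one, mul_one] at h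
  have hY : ρ (pr (sr 1) 1) ∈ φ.range := by
    have h := mul_mem (mul_mem hHm hX) hHm
    rwa [hconj, show wFlip (pr (sr 0) 1) = pr (sr 1) 1 by decide +kernel] at h
  have hW : ∀ w, ρ w ∈ φ.range := fun w => mem_of_gens (K := φ.range.comap ρ) hX hY hT w
  have hsurj : Function.Surjective φ := by
    intro q
    obtain ⟨⟨b, hb⟩, rfl⟩ := QuotientGroup.mk'_surjective _ q
    show π ⟨b, hb⟩ ∈ φ.range
    by_cases hbP : b ∈ P
    · obtain ⟨w, rfl⟩ := F.exists_pre hbP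
      exact hW w
    · obtain ⟨w, hw⟩ := F.exists_pre (F.mul_mem_of_notMem hb hbP hg hgP)
      have h := mul_mem (hW w) (inv_mem hHm)
      have e : ρ w = π ⟨b, hb⟩ * H := by
        show π _ = π _ * π _
        rw [← map_mul]
        exact congrArg π (Subtype.ext hw)
      rwa [e, mul_inv_cancel_right] at h
  refine ⟨MulEquiv.ofBijective φ ((Nat.bijective_iff_surjective_and_card _).2 ⟨hsurj, ?_⟩)⟩
  rw [card_eq, ← index_eq_card]
  have hPN : P ≤ N := le_normalizer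
  have hNcard : Nat.card N = 256 := by
    have h := (P.subgroupOf N).index_mul_card
    rw [show (P.subgroupOf N).index = P.relIndex N from rfl, F.relIndex_normalizer hne,
      Nat.card_congr (subgroupOfEquivOfLe hPN).toEquiv, F.card_P] at h
    omega
  have hcN : center S ≤ N := fun x hx => by
    rcases F.mem_center_iff.1 hx with rfl | rfl
    exacts [one_mem N, hPN (F.mem_P _)]
  have h := ((center S).subgroupOf N).index_mul_card
  rw [Nat.card_congr (subgroupOfEquivOfLe hcN).toEquiv, F.card_center, hNcard] at h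
  change _ = ((center S).subgroupOf N).index
  omega

end Frame

end CfsgLib.PGroup.SectFourWreath
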