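import Mathlib.GroupTheory.SpecificGroups.Dihedral
import Mathlib.GroupTheory.SemidirectProduct
import Mathlib.GroupTheory.Sylow
import Mathlib.GroupTheory.NoncommCoprod
import Mathlib.Data.ZMod.Basic
import Mathlib.GroupTheory.Perm.Fin
import Mathlib.Tactic.Group

/-!
# The wreath product of a dihedral group of order eight by a group of order two

A concrete model, its universal property and its embedding in the symmetric group of degree eight.
-/

set_option autoImplicit false
set_option linter.unusedSectionVars false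

open DihedralGroup

namespace CfsgLib.PGroup.SectFourWreath

/-- The dihedral group of order eight. -/
abbrev DEight := DihedralGroup 4

/-- The group of order two. -/
abbrev CTwo := Multiplicative (ZMod 2)

/-- Interchange of the factors. -/
def flip2 : DEight × DEight ≃* DEight × DEight := MulEquiv.prodComm

theorem flip2_flip2 (p : DEight × DEight) : flip2 (flip2 p) = p := rfl

/-- The action of `CTwo`. -/
def flipAct : CTwo →* MulAut (DEight × DEight) :=
  MonoidHom.mk' (fun c => if c = 1 then 1 else flip2) (by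
    intro a b
    have h : ∀ c : CTwo, c = 1 ∨ c = Multiplicative.ofAdd 1 := by decide
    rcases h a with rfl | rfl <;> rcases h b with rfl | rfl <;>
      simp only [mul_one, one_mul, if_true, if_neg (show ¬ (Multiplicative.ofAdd 1 : CTwo) = 1 by decide)]
    rw [show (Multiplicative.ofAdd 1 : CTwo) * Multiplicative.ofAdd 1 = 1 by decide, if_pos rfl]
    exact MulEquiv.ext fun p => (flip2_flip2 p).symm)

/-- The model. -/
abbrev W := (DEight × DEight) ⋊[flipAct] CTwo

instance : Fintype W := Fintype.ofEquiv _ SemidirectProduct.equivProd.symm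

/-- An element of the base. -/
def pr (a b : DEight) : W := ⟨(a, b), 1⟩

/-- The generator outside the base. -/
def tau : W := ⟨(1, 1), Multiplicative.ofAdd 1⟩

/-- The first four-group. -/
def InE (d : DEight) : Prop := d = 1 ∨ d = r 2 ∨ d = sr 0 ∨ d = sr 2

/-- The second four-group. -/
def InF (d : DEight) : Prop := d = 1 ∨ d = r 2 ∨ d = sr 1 ∨ d = sr 3

/-- The central subgroup of order two. -/
def InC (d : DEight) : Prop := d = 1 ∨ d = r 2

instance : DecidablePred InE := fun _ => inferInstanceAs (Decidable (_ ∨ _ ∨ _ ∨ _))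
instance : DecidablePred InF := fun _ => inferInstanceAs (Decidable (_ ∨ _ ∨ _ ∨ _))
instance : DecidablePred InC := fun _ => inferInstanceAs (Decidable (_ ∨ _))

/-- The base subgroup. -/
def base : Subgroup W where
  carrier := {w | w.right = 1}
  one_mem' := rfl
  mul_mem' := fun {a b} ha hb => by
    simp only [Set.mem_ofPred_eq, SemidirectProduct.mul_right] at *
    rw [ha, hb, one_mul]
  inv_mem' := fun {a} ha => by
    simp only [Set.mem_ofPred_eq, SemidirectProduct.inv_right] at *
    rw [ha, inv_one]

/-- A subgroup of the base with both coordinates in a given set. -/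
def square (P : DEight → Prop) (h1 : P 1) (hm : ∀ a b, P a → P b → P (a * b))
    (hi : ∀ a, P a → P a⁻¹) : Subgroup W where
  carrier := {w | w.right = 1 ∧ P w.left.1 ∧ P w.left.2}
  one_mem' := ⟨rfl, h1, h1⟩
  mul_mem' := fun {a b} ha hb => by
    obtain ⟨ha1, ha2, ha3⟩ := ha
    obtain ⟨hb1, hb2, hb3⟩ := hb
    refine ⟨by rw [SemidirectProduct.mul_right, ha1, hb1, one_mul], ?_, ?_⟩ <;>
      rw [SemidirectProduct.mul_left, ha1, map_one, MulAut.one_apply]
    exacts [hm _ _ ha2 hb2, hm _ _ ha3 hb3]
  inv_mem' := fun {a} ha => by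
    obtain ⟨ha1, ha2, ha3⟩ := ha
    refine ⟨by rw [SemidirectProduct.inv_right, ha1, inv_one], ?_, ?_⟩ <;>
      rw [SemidirectProduct.inv_left, ha1, inv_one, map_one, MulAut.one_apply]
    exacts [hi _ ha2, hi _ ha3]

/-- The first normal elementary subgroup of order sixteen. -/
def vOne : Subgroup W := square InE (by decide) (by decide) (by decide)

/-- The second normal elementary subgroup of order sixteen. -/
def vTwo : Subgroup W := square InF (by decide) (by decide) (by decide)

/-- The centre of the base. -/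
def zBase : Subgroup W := square InC (by decide) (by decide) (by decide)

instance : DecidablePred (· ∈ base) := fun w => inferInstanceAs (Decidable (w.right = 1))
instance : DecidablePred (· ∈ vOne) := fun w =>
  inferInstanceAs (Decidable (w.right = 1 ∧ InE w.left.1 ∧ InE w.left.2))
instance : DecidablePred (· ∈ vTwo) := fun w =>
  inferInstanceAs (Decidable (w.right = 1 ∧ InF w.left.1 ∧ InF w.left.2))
instance : DecidablePred (· ∈ zBase) := fun w =>
  inferInstanceAs (Decidable (w.right = 1 ∧ InC w.left.1 ∧ InC w.left.2))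

theorem card_eq : Nat.card W = 128 := by
  rw [Nat.card_eq_fintype_card]; decide +kernel

theorem card_base : Nat.card base = 64 := by
  rw [Nat.card_eq_fintype_card]; decide +kernel

theorem card_vOne : Nat.card vOne = 16 := by
  rw [Nat.card_eq_fintype_card]; decide +kernel

theorem card_vTwo : Nat.card vTwo = 16 := by
  rw [Nat.card_eq_fintype_card]; decide +kernel

theorem card_zBase : Nat.card zBase = 4 := by
  rw [Nat.card_eq_fintype_card]; decide +kernel

/-- A normal elementary subgroup of order sixteen is one of the two. -/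
theorem normal_sixteen {V : Subgroup W} (hn : ∀ g : W, ∀ v ∈ V, g * v * g⁻¹ ∈ V)
    (h2 : ∀ v ∈ V, v * v = 1) (hc : ∀ v ∈ V, ∀ u ∈ V, v * u = u * v) (h16 : Nat.card V = 16) :
    V = vOne ∨ V = vTwo := by
  have hel : ∀ v : W, v * v = 1 →
      (∀ g ∈ ([pr (r 1) 1, pr (sr 0) 1, tau] : List W), v * (g * v * g⁻¹) = g * v * g⁻¹ * v) →
      v ∈ vOne ∨ v ∈ vTwo := by decide +kernel
  have hmem : ∀ v ∈ V, v ∈ vOne ∨ v ∈ vTwo := fun v hv =>
    hel v (h2 v hv) fun g _ => hc v hv _ (hn g v hv)
  by_cases h : V ≤ vOne
  · exact Or.inl (Subgroup.eq_of_le_of_card_ge h (by rw [card_vOne, h16]))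
  · refine Or.inr (Subgroup.eq_of_le_of_card_ge (fun v hv => ?_) (by rw [card_vTwo, h16]))
    obtain ⟨u, hu, hu1⟩ := SetLike.not_le_iff_exists.1 h
    have hu2 := (hmem u hu).resolve_left hu1
    rcases hmem v hv with hv1 | hv2
    · rcases hmem _ (mul_mem hu hv) with h' | h'
      · exact absurd ((mul_mem_cancel_right hv1).1 h') hu1
      · exact (mul_mem_cancel_left hu2).1 h'
    · exact hv2

/-! ### Homomorphisms out of the model -/

variable {G : Type*} [Group G]

theorem pow_mod_four {w : G} (h : w ^ 4 = 1) (n : ℕ) : w ^ n = w ^ (n % 4) := by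
  conv_lhs => rw [← Nat.mod_add_div n 4, pow_add, pow_mul, h, one_pow, mul_one]

/-- A homomorphism from the dihedral group from two involutions. -/
def dihedralLift (x y : G) (hx : x * x = 1) (hy : y * y = 1) (hxy : (x * y) ^ 4 = 1) : DEight →* G :=
  MonoidHom.mk' (fun d => match d with
    | r i => (x * y) ^ i.val
    | sr i => x * (x * y) ^ i.val) (by
    have hinv : (x * y)⁻¹ = y * x := by
      rw [mul_inv_rev, inv_eq_of_mul_eq_one_right hx, inv_eq_of_mul_eq_one_right hy]
    have hflip : ∀ n : ℕ, (x * y) ^ n * x = x * (x * y) ^ (3 * n) := by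
      intro n
      have h3 : (x * y) ^ 3 = y * x := by
        rw [← hinv]; exact eq_inv_of_mul_eq_one_left (by rw [← pow_succ]; exact hxy)
      rw [pow_mul, h3]
      induction n with
      | zero => simp
      | succ n ih =>
        rw [pow_succ', mul_assoc (x * y), ih, pow_succ']
        simp only [mul_assoc]
    have key : ∀ a b : ℕ, a % 4 = b % 4 → (x * y) ^ a = (x * y) ^ b := fun a b h => by
      rw [pow_mod_four hxy a, pow_mod_four hxy b, h]
    rintro (i | i) (j | j)
    · rw [r_mul_r]
      dsimp only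
      rw [← pow_add]
      exact key _ _ ((by decide : ∀ i j : ZMod 4, (i + j).val % 4 = (i.val + j.val) % 4) i j)
    · rw [r_mul_sr]
      dsimp only
      rw [← mul_assoc, hflip, mul_assoc, ← pow_add]
      exact congrArg (x * ·) (key _ _
        ((by decide : ∀ i j : ZMod 4, (j - i).val % 4 = (3 * i.val + j.val) % 4) i j))
    · rw [sr_mul_r]
      dsimp only
      rw [mul_assoc, ← pow_add]
      exact congrArg (x * ·) (key _ _
        ((by decide : ∀ i j : ZMod 4, (i + j).val % 4 = (i.val + j.val) % 4) i j))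
    · rw [sr_mul_sr]
      dsimp only
      rw [mul_assoc x, ← mul_assoc _ x, hflip, mul_assoc x, ← pow_add, ← mul_assoc, hx, one_mul]
      exact key _ _
        ((by decide : ∀ i j : ZMod 4, (j - i).val % 4 = (3 * i.val + j.val) % 4) i j))

theorem dihedralLift_apply {x y : G} (hx : x * x = 1) (hy : y * y = 1) (hxy : (x * y) ^ 4 = 1) :
    dihedralLift x y hx hy hxy (sr 0) = x ∧ dihedralLift x y hx hy hxy (sr 1) = y := by
  constructor
  · show x * (x * y) ^ 0 = x
    rw [pow_zero, mul_one]
  · show x * (x * y) ^ 1 = y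
    rw [pow_one, ← mul_assoc, hx, one_mul]

theorem dihedralLift_commute {x y : G} (hx : x * x = 1) (hy : y * y = 1) (hxy : (x * y) ^ 4 = 1)
    {g : G} (h1 : Commute x g) (h2 : Commute y g) (d : DEight) :
    Commute (dihedralLift x y hx hy hxy d) g := by
  rcases d with i | i
  · exact (h1.mul_left h2).pow_left _
  · exact h1.mul_left ((h1.mul_left h2).pow_left _)

/-- Relations for a homomorphism out of the model. -/
structure Rel (x y t : G) : Prop where
  x2 : x * x = 1
  y2 : y * y = 1
  t2 : t * t = 1
  xy : (x * y) ^ 4 = 1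
  cxx : Commute x (t * x * t)
  cxy : Commute x (t * y * t)
  cyy : Commute y (t * y * t)

theorem exists_hom {x y t : G} (h : Rel x y t) :
    ∃ φ : W →* G, φ (pr (sr 0) 1) = x ∧ φ (pr (sr 1) 1) = y ∧ φ tau = t := by
  have hti : t⁻¹ = t := inv_eq_of_mul_eq_one_right h.t2
  set f := dihedralLift x y h.x2 h.y2 h.xy
  set g : DEight →* G := (MulAut.conj t).toMonoidHom.comp f
  have hg : ∀ d, g d = t * f d * t := fun d => by
    show t * f d * t⁻¹ = _
    rw [hti]
  have cyx : Commute y (t * x * t) := by
    have h1 : Commute (t * x * t⁻¹) (t * (t * y * t) * t⁻¹) := h.cxy.map (MulAut.conj t).toMonoidHom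
    rw [hti, show t * (t * y * t) * t = t * t * y * (t * t) by group, h.t2, one_mul, mul_one] at h1
    exact h1.symm
  have hcomm : ∀ a b, Commute (f a) (g b) := by
    intro a b
    rw [hg]
    refine dihedralLift_commute h.x2 h.y2 h.xy ?_ ?_ a <;>
    · rcases b with i | i
      all_goals
        first
        | have e : t * f (r i) * t = (t * x * t * (t * y * t)) ^ i.val := by
            show t * (x * y) ^ i.val * t = _
            rw [show t * x * t * (t * y * t) = t * x * (t * t) * y * t by group, h.t2, mul_one,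
              show t * x * y * t = t * (x * y) * t⁻¹ by rw [hti]; group, conj_pow, hti]
          rw [e]
        | have e : t * f (sr i) * t = t * x * t * (t * x * t * (t * y * t)) ^ i.val := by
            show t * (x * (x * y) ^ i.val) * t = _
            rw [show t * x * t * (t * y * t) = t * x * (t * t) * y * t by group, h.t2, mul_one,
              show t * x * y * t = t * (x * y) * t⁻¹ by rw [hti]; group, conj_pow, hti]
            symm
            calc t * x * t * (t * (x * y) ^ i.val * t) = t * x * (t * t) * (x * y) ^ i.val * t := by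
                  group
              _ = t * (x * (x * y) ^ i.val) * t := by rw [h.t2, mul_one]; group
          rw [e]
        first
        | exact (h.cxx.mul_right h.cxy).pow_right _
        | exact h.cxx.mul_right ((h.cxx.mul_right h.cxy).pow_right _)
        | exact (cyx.mul_right h.cyy).pow_right _
        | exact cyx.mul_right ((cyx.mul_right h.cyy).pow_right _)
  let f₁ : DEight × DEight →* G := MonoidHom.noncommCoprod f g hcomm
  let f₂ : CTwo →* G := MonoidHom.mk' (fun c => if c = 1 then 1 else t) (by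
    intro a b
    have h' : ∀ c : CTwo, c = 1 ∨ c = Multiplicative.ofAdd 1 := by decide
    rcases h' a with rfl | rfl <;> rcases h' b with rfl | rfl <;>
      simp only [mul_one, one_mul, if_true, if_neg (show ¬ (Multiplicative.ofAdd 1 : CTwo) = 1 by decide)]
    rw [show (Multiplicative.ofAdd 1 : CTwo) * Multiplicative.ofAdd 1 = 1 by decide, if_pos rfl]
    exact h.t2.symm)
  have hcompat : ∀ c, f₁.comp (flipAct c).toMonoidHom = (MulAut.conj (f₂ c)).toMonoidHom.comp f₁ := by
    intro c
    have h' : ∀ c : CTwo, c = 1 ∨ c = Multiplicative.ofAdd 1 := by decide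
    refine MonoidHom.ext fun p => ?_
    rcases h' c with rfl | rfl
    · simp [map_one]
    · show f p.2 * g p.1 = t * (f p.1 * g p.2) * t⁻¹
      rw [hti, hg, hg, show t * (f p.1 * (t * f p.2 * t)) * t = t * f p.1 * t * f p.2 * (t * t) by
        group, h.t2, mul_one]
      have := (hcomm p.2 p.1).eq
      rw [hg] at this
      exact this
  refine ⟨SemidirectProduct.lift f₁ f₂ hcompat, ?_, ?_, ?_⟩
  · show f (sr 0) * g 1 * f₂ 1 = x
    rw [map_one, map_one, mul_one, mul_one, (dihedralLift_apply h.x2 h.y2 h.xy).1]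
  · show f (sr 1) * g 1 * f₂ 1 = y
    rw [map_one, map_one, mul_one, mul_one, (dihedralLift_apply h.x2 h.y2 h.xy).2]
  · show f 1 * g 1 * t = t
    rw [map_one, map_one, one_mul, one_mul]

/-- The three generators generate the model. -/
theorem mem_of_gens {K : Subgroup W} (h1 : pr (sr 0) 1 ∈ K) (h2 : pr (sr 1) 1 ∈ K) (h3 : tau ∈ K)
    (w : W) : w ∈ K := by
  have hr1 : pr (r 1) 1 ∈ K := by
    rw [show pr (r 1) 1 = pr (sr 0) 1 * pr (sr 1) 1 by decide +kernel]
    exact mul_mem h1 h2
  have hR : tau * pr (r 1) 1 * tau ∈ K := mul_mem (mul_mem h3 hr1) h3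
  have hS : tau * pr (sr 0) 1 * tau ∈ K := mul_mem (mul_mem h3 h1) h3
  obtain ⟨i, j, k, l, m, e⟩ := (by decide +kernel : ∀ w : W, ∃ i j : Fin 4, ∃ k l m : Fin 2,
    w = pr (sr 0) 1 ^ k.val * pr (r 1) 1 ^ i.val *
      ((tau * pr (sr 0) 1 * tau) ^ l.val * (tau * pr (r 1) 1 * tau) ^ j.val) * tau ^ m.val) w
  rw [e]
  exact mul_mem (mul_mem (mul_mem (pow_mem h1 _) (pow_mem hr1 _))
    (mul_mem (pow_mem hS _) (pow_mem hR _))) (pow_mem h3 _)

/-- The embedding in the symmetric group of degree eight. -/
theorem exists_perm_hom : ∃ φ : W →* Equiv.Perm (Fin 8), Function.Injective φ := by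
  let x : Equiv.Perm (Fin 8) := Equiv.swap 0 2
  let y : Equiv.Perm (Fin 8) := Equiv.swap 0 1 * Equiv.swap 2 3
  let t : Equiv.Perm (Fin 8) :=
    Equiv.swap 0 4 * Equiv.swap 1 5 * Equiv.swap 2 6 * Equiv.swap 3 7
  obtain ⟨φ, h1, h2, h3⟩ := exists_hom (x := x) (y := y) (t := t)
    ⟨by decide +kernel, by decide +kernel, by decide +kernel, by decide +kernel,
      by unfold Commute SemiconjBy; decide +kernel, by unfold Commute SemiconjBy; decide +kernel,
      by unfold Commute SemiconjBy; decide +kernel⟩
  refine ⟨φ, (injective_iff_map_eq_one φ).2 fun w hw => ?_⟩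
  obtain ⟨i, j, k, l, m, e⟩ := (by decide +kernel : ∀ w : W, ∃ i j : Fin 4, ∃ k l m : Fin 2,
    w = pr (sr 0) 1 ^ k.val * (pr (sr 0) 1 * pr (sr 1) 1) ^ i.val *
      ((tau * pr (sr 0) 1 * tau) ^ l.val * (tau * (pr (sr 0) 1 * pr (sr 1) 1) * tau) ^ j.val) *
      tau ^ m.val) w
  rw [e] at hw
  simp only [map_mul, map_pow, h1, h2, h3] at hw
  obtain ⟨rfl, rfl, rfl, rfl, rfl⟩ := (by decide +kernel : ∀ i j : Fin 4, ∀ k l m : Fin 2,
    x ^ k.val * (x * y) ^ i.val * ((t * x * t) ^ l.val * (t * (x * y) * t) ^ j.val) * t ^ m.val = 1 →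
      i = 0 ∧ j = 0 ∧ k = 0 ∧ l = 0 ∧ m = 0) i j k l m hw
  rw [e]
  simp

/-- A finite group isomorphic to the model is isomorphic to a Sylow 2-subgroup of the symmetric
group of degree eight, and conversely. -/
theorem sylow_equiv (T : Sylow 2 (Equiv.Perm (Fin 8))) :
    Nonempty (W ≃* (T : Subgroup (Equiv.Perm (Fin 8)))) := by
  obtain ⟨φ, hφ⟩ := exists_perm_hom
  haveI : Fact (Nat.Prime 2) := ⟨Nat.prime_two⟩
  have hcard : Nat.card φ.range = 2 ^ (Nat.card (Equiv.Perm (Fin 8))).factorization 2 := by
    rw [← Nat.card_congr (MonoidHom.ofInjective hφ).toEquiv, card_eq,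
      Nat.card_eq_fintype_card, Fintype.card_perm, Fintype.card_fin,
      show Nat.factorial 8 = 2 ^ 7 * 315 by decide,
      Nat.factorization_mul (by norm_num) (by norm_num), Finsupp.add_apply,
      Nat.factorization_pow, Finsupp.smul_apply, Nat.Prime.factorization_self Nat.prime_two,
      Nat.factorization_eq_zero_of_not_dvd (show ¬ 2 ∣ 315 by norm_num)]
    norm_num
  exact ⟨(MonoidHom.ofInjective hφ).trans ((Sylow.ofCard φ.range hcard).equiv T)⟩

end CfsgLib.PGroup.SectFourWreath
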